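import Cfsg.Agent.Lib.Helper56.RuPerm.Data

set_option autoImplicit false
set_option linter.unusedVariables false

namespace Cfsg.Agent.Lib.Helper56.RuPerm

open Cfsg.Agent.Lib.Helper56.RuQ (Gen)
open Cfsg.Agent.Lib.Helper28.TC Cfsg.Agent.Lib.Helper56.RuR

noncomputable section

theorem ordP_blk1 : allRange (guard nn ordP) 8 (1 * 2 ^ 8) = true := by decide +kernel

end

end Cfsg.Agent.Lib.Helper56.RuPerm
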