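import Cfsg.Agent.Lib.Helper56.RuPerm.Data

set_option autoImplicit false
set_option linter.unusedVariables false

namespace Cfsg.Agent.Lib.Helper56.RuPerm

open Cfsg.Agent.Lib.Helper56.RuQ (Gen)
open Cfsg.Agent.Lib.Helper28.TC Cfsg.Agent.Lib.Helper56.RuR

noncomputable section

theorem orbP3_blk0 : allRange (guard nn orbP3) 10 (0 * 2 ^ 10) = true := by decide +kernel
theorem orbP3_blk1 : allRange (guard nn orbP3) 10 (1 * 2 ^ 10) = true := by decide +kernel
theorem orbP3_blk2 : allRange (guard nn orbP3) 10 (2 * 2 ^ 10) = true := by decide +kernel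
theorem orbP3_blk3 : allRange (guard nn orbP3) 10 (3 * 2 ^ 10) = true := by decide +kernel
theorem orbP3_all : ∀ i, i < nn → orbP3 i = true := by
  refine all_of_blocks nn orbP3 10 4 (by decide) ?_
  intro k hk
  interval_cases k
  · exact orbP3_blk0
  · exact orbP3_blk1
  · exact orbP3_blk2
  · exact orbP3_blk3
theorem orb3_count : countRange (fun i => band (nlt i nn) (OC3.inO i)) 12 0 = 16 := by decide +kernel
theorem orb3_root : OC3.inO 7 = true := by decide +kernel
theorem fix3 : allList (fun w => allList (fun b => Nat.beq (act tf w b) b) [0, 1, 9]) words3 = true := by decide +kernel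

end

end Cfsg.Agent.Lib.Helper56.RuPerm
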