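import Cfsg.Agent.Lib.Helper56.RuPerm.ChkO0
import Cfsg.Agent.Lib.Helper56.RuPerm.ChkO1
import Cfsg.Agent.Lib.Helper56.RuPerm.ChkO2
import Cfsg.Agent.Lib.Helper56.RuPerm.ChkO3
import Cfsg.Agent.Lib.Helper56.RuPerm.ChkS
import Cfsg.Agent.Lib.Helper56.RuPerm.ChkE0
import Cfsg.Agent.Lib.Helper56.RuPerm.ChkE1
import Cfsg.Agent.Lib.Helper56.RuPerm.ChkE2
import Cfsg.Agent.Lib.Helper56.RuPerm.ChkE3
import Cfsg.Agent.Lib.Helper56.RuPerm.ChkE4
import Cfsg.Agent.Lib.Helper56.RuPerm.ChkE5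
import Cfsg.Agent.Lib.Helper56.RuPerm.ChkE6
import Cfsg.Agent.Lib.Helper56.RuPerm.ChkE7
import Cfsg.Agent.Lib.Helper56.RuPerm.ChkE8
import Cfsg.Agent.Lib.Helper56.RuPerm.ChkE9
import Cfsg.Agent.Lib.Helper56.RuPerm.ChkE10
import Cfsg.Agent.Lib.Helper56.RuPerm.ChkE11
import Cfsg.Agent.Lib.Helper56.RuPerm.ChkE12
import Cfsg.Agent.Lib.Helper56.RuPerm.ChkE13
import Cfsg.Agent.Lib.Helper56.RuPerm.ChkE14
import Cfsg.Agent.Lib.Helper56.RuPerm.ChkE15

set_option autoImplicit false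
set_option linter.unusedVariables false

namespace Cfsg.Agent.Lib.Helper56.RuPerm

open Cfsg.Agent.Lib.Helper56.RuQ (Gen)
open Cfsg.Agent.Lib.Helper28.TC Cfsg.Agent.Lib.Helper56.RuR

noncomputable section

theorem ordP_all : ∀ i, i < nn → ordP i = true := by
  refine all_of_blocks nn ordP 8 16 (by decide) ?_
  intro k hk
  interval_cases k
  · exact ordP_blk0
  · exact ordP_blk1
  · exact ordP_blk2
  · exact ordP_blk3
  · exact ordP_blk4
  · exact ordP_blk5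
  · exact ordP_blk6
  · exact ordP_blk7
  · exact ordP_blk8
  · exact ordP_blk9
  · exact ordP_blk10
  · exact ordP_blk11
  · exact ordP_blk12
  · exact ordP_blk13
  · exact ordP_blk14
  · exact ordP_blk15

end

end Cfsg.Agent.Lib.Helper56.RuPerm
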